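import Cfsg.Agent.Helper28.CoxG
import Cfsg.Agent.Helper28.TCL4
import Cfsg.Agent.Helper28.HEPB.Cert

/-!
# The relation `(cde)^5 = 1` in the presented group He (helper28)

The generators `a, b, c, d, e` with the relators of He among them present a group of order 15120;
a coset enumeration over its trivial subgroup proves `(cde)^5 = 1` there, hence in He.
-/

set_option autoImplicit false

namespace Cfsg.Agent.Helper28.HE

open Cfsg.Spor

theorem he_node (x : He.Gen) : x ∈ coxNodes He.edges := by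
  cases x <;> decide

theorem relPB_0 : FreeGroup.lift (fun y => (PresentedGroup.of (PB.inc y) : He))
    (PB.e * ((PB.a * PB.b * PB.c) ^ 3)⁻¹) = 1 := by
  rw [Cfsg.Agent.Helper28.lift_of_comp]
  have e : FreeGroup.map PB.inc (PB.e * ((PB.a * PB.b * PB.c) ^ 3)⁻¹) =
      He.e * ((He.a * He.b * He.c) ^ 3)⁻¹ := by
    simp only [map_pow, map_mul, map_inv, FreeGroup.map.of, PB.inc]
  rw [e]
  exact PresentedGroup.one_of_mem (Or.inr (by simp [He.extra]))

theorem relPB_1 : FreeGroup.lift (fun y => (PresentedGroup.of (PB.inc y) : He))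
    (PB.a * ((PB.c * PB.d) ^ 5)⁻¹) = 1 := by
  rw [Cfsg.Agent.Helper28.lift_of_comp]
  have e : FreeGroup.map PB.inc (PB.a * ((PB.c * PB.d) ^ 5)⁻¹) =
      He.a * ((He.c * He.d) ^ 5)⁻¹ := by
    simp only [map_pow, map_mul, map_inv, FreeGroup.map.of, PB.inc]
  rw [e]
  exact PresentedGroup.one_of_mem (Or.inr (by simp [He.extra]))

theorem relPB : ∀ r ∈ (coxRelators PB.edges ∪ {r | r ∈ PB.extra}),
    FreeGroup.lift (fun y => (PresentedGroup.of (PB.inc y) : He)) r = 1 := by
  intro r hr
  rcases hr with ⟨x, _, y, _, rfl⟩ | hr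
  · rw [map_pow, map_mul, FreeGroup.lift_apply_of, FreeGroup.lift_apply_of]
    have e : coxLabel PB.edges x y = coxLabel He.edges (PB.inc x) (PB.inc y) := by
      cases x <;> cases y <;> decide
    rw [e]
    exact Cfsg.Agent.Helper28.cox_pair He.edges He.extra _ _ (he_node _) (he_node _)
  · have hr' : r ∈ PB.extra := hr
    simp only [PB.extra, List.mem_cons, List.not_mem_nil, or_false] at hr'
    rcases hr' with rfl | rfl
    · exact relPB_0
    · exact relPB_1

/-- the homomorphism from the group presented on `a, b, c, d, e` -/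
noncomputable def fPB : CoxPresented PB.Gen PB.edges PB.extra →* He :=
  PresentedGroup.toGroup relPB

/-- the word `(cde)^5` -/
def cdeW : List ℕ := [2, 3, 4, 2, 3, 4, 2, 3, 4, 2, 3, 4, 2, 3, 4]

theorem cdeW_wordOf : Cfsg.Agent.Helper28.WordOf Cfsg.Agent.Helper28.HEPB.gen
    ((PB.c * PB.d * PB.e) ^ 5) cdeW := by
  intro K _ v hv
  simp only [map_mul, map_pow, FreeGroup.lift_apply_of, List.map_cons, List.map_nil,
    List.prod_cons, List.prod_nil, Cfsg.Agent.Helper28.HEPB.gen, cdeW, pow_succ, pow_zero, one_mul,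
    mul_one, mul_assoc]

theorem cde5_pb : (PresentedGroup.mk (coxRelators PB.edges ∪ {r | r ∈ PB.extra})
    ((PB.c * PB.d * PB.e) ^ 5) : CoxPresented PB.Gen PB.edges PB.extra) = 1 := by
  have h := Cfsg.Agent.Helper28.HEPB.cert.eq_one_of_walk rfl cdeW (by decide +kernel)
    (by decide +kernel)
  rw [Cfsg.Agent.Helper28.HEPB.cert.wordVal ((PB.c * PB.d * PB.e) ^ 5) cdeW cdeW_wordOf
    (by decide +kernel)] at h
  exact h

/-- The relation `(cde)^5 = 1` holds in He. -/
theorem cde5 : (PresentedGroup.mk (coxRelators He.edges ∪ {r | r ∈ He.extra})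
    ((He.c * He.d * He.e) ^ 5) : He) = 1 := by
  have h := congrArg fPB cde5_pb
  rw [map_one] at h
  have e1 : fPB (PresentedGroup.mk (coxRelators PB.edges ∪ {r | r ∈ PB.extra})
      ((PB.c * PB.d * PB.e) ^ 5)) =
      FreeGroup.lift (fun y => (PresentedGroup.of (PB.inc y) : He)) ((PB.c * PB.d * PB.e) ^ 5) := rfl
  rw [e1, Cfsg.Agent.Helper28.lift_of_comp] at h
  have e : FreeGroup.map PB.inc ((PB.c * PB.d * PB.e) ^ 5) = (He.c * He.d * He.e) ^ 5 := by
    simp only [map_pow, map_mul, FreeGroup.map.of, PB.inc]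
  rw [e] at h
  exact h

end Cfsg.Agent.Helper28.HE
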