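import Mathlib
import Cfsg.Prelude.Def_Spor_He

/-! Auxiliary presentations on sub-diagrams of the presentation of He (generated). -/

set_option autoImplicit false

namespace Cfsg.Agent.Helper28.HE

namespace Q1

/-- the generators -/
inductive Gen
  | a
  | c
  | d
  | e
  | f
  | g
  deriving DecidableEq

/-- a generator as a word -/
abbrev a : FreeGroup Gen := FreeGroup.of Gen.a
/-- a generator as a word -/
abbrev c : FreeGroup Gen := FreeGroup.of Gen.c
/-- a generator as a word -/
abbrev d : FreeGroup Gen := FreeGroup.of Gen.d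
/-- a generator as a word -/
abbrev e : FreeGroup Gen := FreeGroup.of Gen.e
/-- a generator as a word -/
abbrev f : FreeGroup Gen := FreeGroup.of Gen.f
/-- a generator as a word -/
abbrev g : FreeGroup Gen := FreeGroup.of Gen.g

/-- the Coxeter graph -/
def edges : List (Gen × ℕ × Gen) :=
  [(.c, 10, .d), (.d, 3, .e), (.d, 3, .f), (.f, 4, .g), (.g, 3, .d), (.a, 2, .c)]

/-- the further relators -/
def extra : List (FreeGroup Gen) := [e * ((f * g) ^ 2)⁻¹,
  a * ((c * d) ^ 5)⁻¹,
  (c * d * f * g) ^ 4,
  (c * d * e) ^ 5]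

/-- the inclusion of the generators -/
def inc : Gen → Cfsg.Spor.He.Gen
  | .a => .a
  | .c => .c
  | .d => .d
  | .e => .e
  | .f => .f
  | .g => .g

end Q1

namespace Q2

/-- the generators -/
inductive Gen
  | a
  | c
  | d
  deriving DecidableEq

/-- a generator as a word -/
abbrev a : FreeGroup Gen := FreeGroup.of Gen.a
/-- a generator as a word -/
abbrev c : FreeGroup Gen := FreeGroup.of Gen.c
/-- a generator as a word -/
abbrev d : FreeGroup Gen := FreeGroup.of Gen.d

/-- the Coxeter graph -/
def edges : List (Gen × ℕ × Gen) :=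
  [(.c, 10, .d), (.a, 2, .c)]

/-- the further relators -/
def extra : List (FreeGroup Gen) := [a * ((c * d) ^ 5)⁻¹]

/-- the inclusion of the generators -/
def inc : Gen → Cfsg.Spor.He.Gen
  | .a => .a
  | .c => .c
  | .d => .d

end Q2

namespace PB

/-- the generators -/
inductive Gen
  | a
  | b
  | c
  | d
  | e
  deriving DecidableEq

/-- a generator as a word -/
abbrev a : FreeGroup Gen := FreeGroup.of Gen.a
/-- a generator as a word -/
abbrev b : FreeGroup Gen := FreeGroup.of Gen.b
/-- a generator as a word -/
abbrev c : FreeGroup Gen := FreeGroup.of Gen.c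
/-- a generator as a word -/
abbrev d : FreeGroup Gen := FreeGroup.of Gen.d
/-- a generator as a word -/
abbrev e : FreeGroup Gen := FreeGroup.of Gen.e

/-- the Coxeter graph -/
def edges : List (Gen × ℕ × Gen) :=
  [(.a, 4, .b), (.b, 3, .c), (.c, 10, .d), (.d, 3, .e)]

/-- the further relators -/
def extra : List (FreeGroup Gen) := [e * ((a * b * c) ^ 3)⁻¹,
  a * ((c * d) ^ 5)⁻¹]

/-- the inclusion of the generators -/
def inc : Gen → Cfsg.Spor.He.Gen
  | .a => .a
  | .b => .b
  | .c => .c
  | .d => .d
  | .e => .e

end PB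

end Cfsg.Agent.Helper28.HE
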