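import Cfsg.Agent.Helper28.Grp5
import Cfsg.Agent.Helper28.TCL4
import Cfsg.Agent.Helper28.HE.Order
import Cfsg.Agent.Helper28.HEN.Cert
import Cfsg.Agent.Helper28.HENL.All
import Cfsg.Agent.Helper28.HENO.OrbAll

/-!
# The presented group He is simple of order 4030387200 (helper28)

Order: a tower of subgroups with coset enumeration certificates bounds the order from above (the
subgroup `⟨a, c, d, e, f, g⟩` of index 49980 is a quotient of the group presented on these generators
by the relators of He among them and `(cde)^5`, which holds in He by an enumeration of the group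
presented on `a, b, c, d, e`); a stabiliser chain in the permutation representation on the 8330
cosets of the normaliser `N` of a four-group bounds it from below, so this representation is faithful.
Simplicity: Iwasawa's criterion for the action on these 8330 points: `N` is maximal (the unions of
its seven orbits that contain the trivial coset and have a size dividing 8330 are not closed), and
the four-group is an abelian normal subgroup of `N` containing the generator `a`.
-/

set_option autoImplicit false

namespace Cfsg.Agent.Helper28.HE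

open Cfsg.Spor

/-- the normaliser of the four-group -/
noncomputable abbrev HV : Subgroup He :=
  (Subgroup.closure ({Cfsg.Spor.He.c, Cfsg.Spor.He.d, Cfsg.Spor.He.f, Cfsg.Spor.He.g, Cfsg.Spor.He.b * Cfsg.Spor.He.a * Cfsg.Spor.He.b, Cfsg.Spor.He.b * Cfsg.Spor.He.c * Cfsg.Spor.He.d * Cfsg.Spor.He.f * Cfsg.Spor.He.e * Cfsg.Spor.He.d * Cfsg.Spor.He.c * Cfsg.Spor.He.d * Cfsg.Spor.He.b * Cfsg.Spor.He.c * Cfsg.Spor.He.d * Cfsg.Spor.He.e * Cfsg.Spor.He.c * Cfsg.Spor.He.d * Cfsg.Spor.He.b * Cfsg.Spor.He.c * Cfsg.Spor.He.d * Cfsg.Spor.He.f * Cfsg.Spor.He.e * Cfsg.Spor.He.d * Cfsg.Spor.He.c * Cfsg.Spor.He.b} : Set (FreeGroup Cfsg.Spor.He.Gen))).map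
    (PresentedGroup.mk (coxRelators He.edges ∪ {r | r ∈ He.extra}))

theorem card_inj : Nat.card He = 4030387200 ∧
    Function.Injective Cfsg.Agent.Helper28.HEN.cert.perm := by
  obtain ⟨hfin, hle⟩ := card_le
  have hlb := Cfsg.Agent.Helper28.HENL.lb_chain
  have e1 : 8330 * 4480 * 108 = 4030387200 := by norm_num
  have e2 : 49980 * (4032 * (20)) = 4030387200 := by norm_num
  rw [e1] at hlb
  rw [e2] at hle
  exact Cfsg.Agent.Helper28.HEN.cert.card_inj 4030387200 (by norm_num) _ hfin hle hlb

theorem card_eq : Nat.card He = 4030387200 := card_inj.1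

theorem inj : Function.Injective Cfsg.Agent.Helper28.HEN.cert.perm := card_inj.2

theorem finite : Finite He := card_le.1

theorem nontrivial : Nontrivial He := by
  have := finite
  rw [← Finite.one_lt_card_iff_nontrivial, card_eq]
  norm_num

theorem fix_bot : Cfsg.Agent.Helper28.fixSub Cfsg.Agent.Helper28.HEN.cert.perm
    [Cfsg.Agent.Helper28.HENL.ov3 0, Cfsg.Agent.Helper28.HENL.ov2 0, 0] = ⊥ := by
  have := finite
  have hlb := Cfsg.Agent.Helper28.HENL.lb_chain
  have e1 : 8330 * 4480 * 108 = 4030387200 := by norm_num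
  rw [e1, card_eq] at hlb
  apply Subgroup.eq_bot_of_card_le
  exact Nat.le_of_mul_le_mul_left (by rw [Nat.mul_one]; exact hlb) (by norm_num)

/-! ### the relations as equations -/

theorem rel_e_fg : (PresentedGroup.of He.Gen.e : He) =
    (PresentedGroup.of He.Gen.f * PresentedGroup.of He.Gen.g) ^ 2 := by
  have h : (PresentedGroup.mk (coxRelators He.edges ∪ {r | r ∈ He.extra})
      (He.e * ((He.f * He.g) ^ 2)⁻¹) : He) = 1 :=
    PresentedGroup.one_of_mem (Or.inr (by simp [He.extra]))
  rw [map_mul, map_inv, map_pow, map_mul, mul_inv_eq_one] at h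
  exact h

theorem rel_e_abc : (PresentedGroup.of He.Gen.e : He) =
    (PresentedGroup.of He.Gen.a * PresentedGroup.of He.Gen.b * PresentedGroup.of He.Gen.c) ^ 3 := by
  have h : (PresentedGroup.mk (coxRelators He.edges ∪ {r | r ∈ He.extra})
      (He.e * ((He.a * He.b * He.c) ^ 3)⁻¹) : He) = 1 :=
    PresentedGroup.one_of_mem (Or.inr (by simp [He.extra]))
  rw [map_mul, map_inv, map_pow, map_mul, map_mul, mul_inv_eq_one] at h
  exact h

theorem rel_a_cd : (PresentedGroup.of He.Gen.a : He) =
    (PresentedGroup.of He.Gen.c * PresentedGroup.of He.Gen.d) ^ 5 := by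
  have h : (PresentedGroup.mk (coxRelators He.edges ∪ {r | r ∈ He.extra})
      (He.a * ((He.c * He.d) ^ 5)⁻¹) : He) = 1 :=
    PresentedGroup.one_of_mem (Or.inr (by simp [He.extra]))
  rw [map_mul, map_inv, map_pow, map_mul, mul_inv_eq_one] at h
  exact h

/-! ### perfect -/

theorem ab_one (x : He.Gen) : Abelianization.of (PresentedGroup.of x : He) = 1 := by
  have hA2 := cox_ab_sq He.edges He.extra He.Gen.a (node _)
  have hB2 := cox_ab_sq He.edges He.extra He.Gen.b (node _)
  have hD2 := cox_ab_sq He.edges He.extra He.Gen.d (node _)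
  have hbc := cox_ab_edge He.edges He.extra He.Gen.b He.Gen.c (node _) (node _) (by decide)
  have hde := cox_ab_edge He.edges He.extra He.Gen.d He.Gen.e (node _) (node _) (by decide)
  have hdf := cox_ab_edge He.edges He.extra He.Gen.d He.Gen.f (node _) (node _) (by decide)
  have hdg := cox_ab_edge He.edges He.extra He.Gen.d He.Gen.g (node _) (node _) (by decide)
  have q1 := congrArg (Abelianization.of : He →* Abelianization He) rel_e_fg
  have q2 := congrArg (Abelianization.of : He →* Abelianization He) rel_e_abc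
  have q3 := congrArg (Abelianization.of : He →* Abelianization He) rel_a_cd
  rw [map_pow, map_mul, ← hde, ← hdf, ← hdg] at q1
  rw [map_pow, map_mul, map_mul, ← hde, ← hbc] at q2
  rw [map_pow, map_mul, ← hbc] at q3
  have key : Abelianization.of (PresentedGroup.of He.Gen.a : He) = 1 ∧
      Abelianization.of (PresentedGroup.of He.Gen.b : He) = 1 ∧
      Abelianization.of (PresentedGroup.of He.Gen.d : He) = 1 := by
    generalize Abelianization.of (PresentedGroup.of He.Gen.a : He) = A at *
    generalize Abelianization.of (PresentedGroup.of He.Gen.b : He) = B at *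
    generalize Abelianization.of (PresentedGroup.of He.Gen.d : He) = D at *
    have hD : D = 1 := by
      rw [hD2, one_pow] at q1
      exact q1
    have hA : A = 1 := by
      rw [hD, mul_assoc, hB2, mul_one] at q2
      exact eq_one_of_sq_of_pow_odd A hA2 3 (by decide) q2.symm
    have hB : B = 1 := by
      rw [hA, hD, mul_one] at q3
      exact eq_one_of_sq_of_pow_odd B hB2 5 (by decide) q3.symm
    exact ⟨hA, hB, hD⟩
  obtain ⟨hA, hB, hD⟩ := key
  cases x
  · exact hA
  · exact hB
  · rw [← hbc]; exact hB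
  · exact hD
  · rw [← hde]; exact hD
  · rw [← hdf]; exact hD
  · rw [← hdg]; exact hD

theorem perfect : commutator He = ⊤ :=
  commutator_eq_top_of_gens _ ab_one

/-! ### the normal closure of `a` -/

theorem top_of_a_mem (N : Subgroup He) (hN : N.Normal)
    (ha : (PresentedGroup.of He.Gen.a : He) ∈ N) : N = ⊤ := by
  have he : (PresentedGroup.of He.Gen.e : He) ∈ N := by
    have h3 := cox_pair He.edges He.extra He.Gen.b He.Gen.c (node _) (node _)
    have e3 : coxLabel He.edges He.Gen.b He.Gen.c = 3 := by decide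
    rw [e3] at h3
    rw [rel_e_abc, ← QuotientGroup.eq_one_iff, QuotientGroup.mk_pow, QuotientGroup.mk_mul,
      QuotientGroup.mk_mul, (QuotientGroup.eq_one_iff _).mpr ha, one_mul, ← QuotientGroup.mk_mul,
      ← QuotientGroup.mk_pow, h3]
    rfl
  have hd := cox_normal_edge He.edges He.extra _ hN He.Gen.e He.Gen.d (node _) (node _) (by decide) he
  have hf := cox_normal_edge He.edges He.extra _ hN He.Gen.d He.Gen.f (node _) (node _) (by decide) hd
  have hg := cox_normal_edge He.edges He.extra _ hN He.Gen.d He.Gen.g (node _) (node _) (by decide) hd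
  have hc : (PresentedGroup.of He.Gen.c : He) ∈ N := by
    have h1 : ((PresentedGroup.of He.Gen.c : He) * PresentedGroup.of He.Gen.d) ^ 5 ∈ N := by
      rw [← rel_a_cd]; exact ha
    rw [← QuotientGroup.eq_one_iff, QuotientGroup.mk_pow, QuotientGroup.mk_mul,
      (QuotientGroup.eq_one_iff _).mpr hd, mul_one] at h1
    have h2 : ((PresentedGroup.of He.Gen.c : He) : He ⧸ N) * ((PresentedGroup.of He.Gen.c : He) : He ⧸ N)
        = 1 := by
      rw [← QuotientGroup.mk_mul, cox_sq He.edges He.extra He.Gen.c (node _)]; rfl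
    exact (QuotientGroup.eq_one_iff _).mp (eq_one_of_sq_of_pow_odd _ h2 5 (by decide) h1)
  have hb := cox_normal_edge He.edges He.extra _ hN He.Gen.c He.Gen.b (node _) (node _) (by decide) hc
  rw [eq_top_iff, ← PresentedGroup.closure_range_of]
  apply (Subgroup.closure_le _).mpr
  rintro _ ⟨x, rfl⟩
  cases x
  · exact ha
  · exact hb
  · exact hc
  · exact hd
  · exact he
  · exact hf
  · exact hg

/-! ### words and their values -/

/-- the value of a generator column -/
noncomputable abbrev gv (k : ℕ) : He :=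
  Cfsg.Agent.Helper28.coxVal He.edges He.extra Cfsg.Agent.Helper28.HEN.gen
    Cfsg.Agent.Helper28.HEN.D.jc k

/-- the value of a word -/
noncomputable abbrev wv (l : List ℕ) : He := (l.map gv).prod

theorem wv_append (l1 l2 : List ℕ) : wv (l1 ++ l2) = wv l1 * wv l2 := by
  show ((l1 ++ l2).map gv).prod = (l1.map gv).prod * (l2.map gv).prod
  rw [List.map_append, List.prod_append]

theorem wv_reverse (l : List ℕ) (hl : Cfsg.Agent.Helper28.letChk Cfsg.Agent.Helper28.HEN.D.jc l = true) :
    wv l.reverse = (wv l)⁻¹ :=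
  Cfsg.Agent.Helper28.prod_reverse_inv _ l
    (fun a ha => Cfsg.Agent.Helper28.HEN.cert.valInv a
      (le_of_lt ((Cfsg.Agent.Helper28.letChk_iff _ _).mp hl a ha)))

/-- equality of word values, checked on the base -/
theorem wv_eq (l1 l2 : List ℕ)
    (h1 : Cfsg.Agent.Helper28.letChk Cfsg.Agent.Helper28.HEN.D.jc l1 = true)
    (h2 : Cfsg.Agent.Helper28.letChk Cfsg.Agent.Helper28.HEN.D.jc l2 = true)
    (h : Cfsg.Agent.Helper28.eqBase Cfsg.Agent.Helper28.HEN.T l1 l2
      [Cfsg.Agent.Helper28.HENL.ov3 0, Cfsg.Agent.Helper28.HENL.ov2 0, 0] = true) :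
    wv l1 = wv l2 :=
  Cfsg.Agent.Helper28.HEN.cert.word_eq_base _ fix_bot l1 l2 h1 h2 h

/-- conjugation of word values, checked on the base -/
theorem wv_conj (s x y : List ℕ)
    (hs : Cfsg.Agent.Helper28.letChk Cfsg.Agent.Helper28.HEN.D.jc s = true)
    (h1 : Cfsg.Agent.Helper28.letChk Cfsg.Agent.Helper28.HEN.D.jc (s ++ (x ++ s.reverse)) = true)
    (h2 : Cfsg.Agent.Helper28.letChk Cfsg.Agent.Helper28.HEN.D.jc y = true)
    (h : Cfsg.Agent.Helper28.eqBase Cfsg.Agent.Helper28.HEN.T (s ++ (x ++ s.reverse)) y
      [Cfsg.Agent.Helper28.HENL.ov3 0, Cfsg.Agent.Helper28.HENL.ov2 0, 0] = true) :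
    wv s * wv x * (wv s)⁻¹ = wv y := by
  have e := wv_eq _ _ h1 h2 h
  rw [wv_append, wv_append, wv_reverse s hs, ← mul_assoc] at e
  exact e

/-- the generator `a` -/
def aW : List ℕ := [0]
/-- the word `(fdc)^5` -/
def vW : List ℕ := [5, 3, 2, 5, 3, 2, 5, 3, 2, 5, 3, 2, 5, 3, 2]
/-- the word `(gdc)^5` -/
def wW : List ℕ := [6, 3, 2, 6, 3, 2, 6, 3, 2, 6, 3, 2, 6, 3, 2]
/-- the generator `c` -/
def cW : List ℕ := [2]
/-- the generator `d` -/
def dW : List ℕ := [3]
/-- the generator `f` -/
def fW : List ℕ := [5]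
/-- the generator `g` -/
def gW : List ℕ := [6]
/-- the word `bab` -/
def babW : List ℕ := [1, 0, 1]
/-- the word `u` -/
def uW : List ℕ := [1, 2, 3, 5, 4, 3, 2, 3, 1, 2, 3, 4, 2, 3, 1, 2, 3, 5, 4, 3, 2, 1]

/-- the four-group -/
noncomputable abbrev VA : Subgroup He := Subgroup.closure ({wv aW, wv vW, wv wW} : Set He)

theorem wv_aW : wv aW = PresentedGroup.of He.Gen.a := by
  show ([0].map gv).prod = _
  rw [List.map_cons, List.map_nil, List.prod_cons, List.prod_nil, mul_one]
  exact Cfsg.Agent.Helper28.coxVal_of 0 (by decide +kernel)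

theorem comm_av : wv aW * wv vW = wv vW * wv aW := by
  rw [← wv_append, ← wv_append]
  exact wv_eq _ _ (by decide +kernel) (by decide +kernel) (by decide +kernel)

theorem comm_aw : wv aW * wv wW = wv wW * wv aW := by
  rw [← wv_append, ← wv_append]
  exact wv_eq _ _ (by decide +kernel) (by decide +kernel) (by decide +kernel)

theorem comm_vw : wv vW * wv wW = wv wW * wv vW := by
  rw [← wv_append, ← wv_append]
  exact wv_eq _ _ (by decide +kernel) (by decide +kernel) (by decide +kernel)

theorem VA_comm : IsMulCommutative VA := by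
  apply Subgroup.isMulCommutative_closure
  intro x hx y hy
  simp only [Set.mem_insert_iff, Set.mem_singleton_iff] at hx hy
  rcases hx with rfl | rfl | rfl <;> rcases hy with rfl | rfl | rfl
  · rfl
  · exact comm_av
  · exact comm_aw
  · exact comm_av.symm
  · rfl
  · exact comm_vw
  · exact comm_aw.symm
  · exact comm_vw.symm
  · rfl

/-- a word fixing `a`, `v`, `w` normalises the four-group -/
theorem norm_fix (s : List ℕ)
    (ha : wv s * wv aW * (wv s)⁻¹ = wv aW) (hv : wv s * wv vW * (wv s)⁻¹ = wv vW)
    (hw : wv s * wv wW * (wv s)⁻¹ = wv wW) :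
    wv s ∈ Subgroup.normalizer (VA : Set He) :=
  Cfsg.Agent.Helper28.mem_normalizer_closure3 _ _ _ _ _ _ _ ha hv hw rfl

theorem norm_c : wv cW ∈ Subgroup.normalizer (VA : Set He) :=
  norm_fix cW
    (wv_conj _ _ _ (by decide +kernel) (by decide +kernel) (by decide +kernel) (by decide +kernel))
    (wv_conj _ _ _ (by decide +kernel) (by decide +kernel) (by decide +kernel) (by decide +kernel))
    (wv_conj _ _ _ (by decide +kernel) (by decide +kernel) (by decide +kernel) (by decide +kernel))

theorem norm_d : wv dW ∈ Subgroup.normalizer (VA : Set He) :=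
  norm_fix dW
    (wv_conj _ _ _ (by decide +kernel) (by decide +kernel) (by decide +kernel) (by decide +kernel))
    (wv_conj _ _ _ (by decide +kernel) (by decide +kernel) (by decide +kernel) (by decide +kernel))
    (wv_conj _ _ _ (by decide +kernel) (by decide +kernel) (by decide +kernel) (by decide +kernel))

theorem norm_f : wv fW ∈ Subgroup.normalizer (VA : Set He) :=
  norm_fix fW
    (wv_conj _ _ _ (by decide +kernel) (by decide +kernel) (by decide +kernel) (by decide +kernel))
    (wv_conj _ _ _ (by decide +kernel) (by decide +kernel) (by decide +kernel) (by decide +kernel))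
    (wv_conj _ _ _ (by decide +kernel) (by decide +kernel) (by decide +kernel) (by decide +kernel))

theorem norm_g : wv gW ∈ Subgroup.normalizer (VA : Set He) :=
  norm_fix gW
    (wv_conj _ _ _ (by decide +kernel) (by decide +kernel) (by decide +kernel) (by decide +kernel))
    (wv_conj _ _ _ (by decide +kernel) (by decide +kernel) (by decide +kernel) (by decide +kernel))
    (wv_conj _ _ _ (by decide +kernel) (by decide +kernel) (by decide +kernel) (by decide +kernel))

theorem norm_bab : wv babW ∈ Subgroup.normalizer (VA : Set He) :=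
  Cfsg.Agent.Helper28.mem_normalizer_closure3 (wv aW) (wv vW) (wv wW) (wv aW) (wv wW) (wv vW) _
    (wv_conj _ _ _ (by decide +kernel) (by decide +kernel) (by decide +kernel) (by decide +kernel))
    (wv_conj _ _ _ (by decide +kernel) (by decide +kernel) (by decide +kernel) (by decide +kernel))
    (wv_conj _ _ _ (by decide +kernel) (by decide +kernel) (by decide +kernel) (by decide +kernel))
    (by
      ext z
      simp only [Set.mem_insert_iff, Set.mem_singleton_iff]
      tauto)

theorem norm_u : wv uW ∈ Subgroup.normalizer (VA : Set He) :=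
  Cfsg.Agent.Helper28.mem_normalizer_closure3 (wv aW) (wv vW) (wv wW) (wv vW) (wv wW) (wv aW) _
    (wv_conj _ _ _ (by decide +kernel) (by decide +kernel) (by decide +kernel) (by decide +kernel))
    (wv_conj _ _ _ (by decide +kernel) (by decide +kernel) (by decide +kernel) (by decide +kernel))
    (wv_conj _ _ _ (by decide +kernel) (by decide +kernel) (by decide +kernel) (by decide +kernel))
    (by
      ext z
      simp only [Set.mem_insert_iff, Set.mem_singleton_iff]
      tauto)

theorem HV_le : HV ≤ Subgroup.normalizer (VA : Set He) := by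
  unfold HV
  rw [MonoidHom.map_closure]
  apply (Subgroup.closure_le _).mpr
  rintro _ ⟨s, hs, rfl⟩
  simp only [Set.mem_insert_iff, Set.mem_singleton_iff] at hs
  rcases hs with rfl | rfl | rfl | rfl | rfl | rfl
  · rw [SetLike.mem_coe, ← Cfsg.Agent.Helper28.HEN.cert.wordVal _ cW Cfsg.Agent.Helper28.HEN.wS_0
      (by decide +kernel)]
    exact norm_c
  · rw [SetLike.mem_coe, ← Cfsg.Agent.Helper28.HEN.cert.wordVal _ dW Cfsg.Agent.Helper28.HEN.wS_1
      (by decide +kernel)]
    exact norm_d
  · rw [SetLike.mem_coe, ← Cfsg.Agent.Helper28.HEN.cert.wordVal _ fW Cfsg.Agent.Helper28.HEN.wS_2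
      (by decide +kernel)]
    exact norm_f
  · rw [SetLike.mem_coe, ← Cfsg.Agent.Helper28.HEN.cert.wordVal _ gW Cfsg.Agent.Helper28.HEN.wS_3
      (by decide +kernel)]
    exact norm_g
  · rw [SetLike.mem_coe, ← Cfsg.Agent.Helper28.HEN.cert.wordVal _ babW Cfsg.Agent.Helper28.HEN.wS_4
      (by decide +kernel)]
    exact norm_bab
  · rw [SetLike.mem_coe, ← Cfsg.Agent.Helper28.HEN.cert.wordVal _ uW Cfsg.Agent.Helper28.HEN.wS_5
      (by decide +kernel)]
    exact norm_u

theorem VA_normal : ∀ h ∈ HV, ∀ x ∈ VA, h * x * h⁻¹ ∈ VA := by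
  intro h hh x hx
  exact (Subgroup.mem_normalizer_iff.mp (HV_le hh) x).mp hx

theorem VA_gen : Subgroup.normalClosure (VA : Set He) = ⊤ := by
  apply top_of_a_mem _ Subgroup.normalClosure_normal
  apply Subgroup.subset_normalClosure
  rw [← wv_aW]
  exact Subgroup.subset_closure (Set.mem_insert _ _)

end Cfsg.Agent.Helper28.HE
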